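import Cfsg.Agent.Lib.HeightPSolv.Principal
import Cfsg.Agent.Lib.PSolvable.HallHigman
import Cfsg.Agent.Lib.PSolvable.PSolv
import Cfsg.Agent.Lib.Transfer.Criteria
import Cfsg.Agent.Lib.Transfer.Tate
import Cfsg.Agent.Lib.Chars.Ops
import Cfsg.Agent.Lib.Chars.Induced
import Mathlib

/-!
# The kernel of the characters of degree prime to `p` in the principal block
-/

set_option autoImplicit false

namespace Cfsg.Agent.Lib.PrincipalKernel

open Cfsg Cfsg.Agent.Lib
open scoped Classical

universe u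

variable {G : Type u} [Group G] [Finite G] {p : ℕ} [Fact p.Prime] {M : Ideal AlgInt}

/-- In a `p`-solvable group the inflations from `G ⧸ O_{p'}(G)` lie in the principal block. -/
theorem inflate_mem_principalBlock (hM : IsPModular p M) (hps : IsPSolvable p G)
    [(pPrimeCore p G).Normal] (φ : IrrCharacter (G ⧸ pPrimeCore p G)) :
    Chars.inflate (pPrimeCore p G) φ ∈ principalBlock M G := by
  haveI := Blocks.isPModular_isPrime hM
  haveI : (pCore p (G ⧸ pPrimeCore p G)).Normal := by
    haveI := PSolvable.pCore_characteristic (p := p) (G := G ⧸ pPrimeCore p G)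
    infer_instance
  exact HeightPSolv.sameBlock_inflate (pPrimeCore p G)
    (HeightPSolv.sameBlock_of_centralizer_le hM (pCore p (G ⧸ pPrimeCore p G)) PSolvable.pCore_isPGroup
      (PSolvable.centralizer_pCore_le_of_isPSolvable (PSolvable.isPSolvable_quotient hps _)
        PSolvable.pPrimeCore_quotient_eq_bot) (Chars.trivialIrr _) φ)

omit [Fact p.Prime] in
/-- A homomorphism on a Sylow subgroup is a constituent of a character of degree prime to `p`. -/
theorem exists_pprime_constituent (hp : p.Prime) [Fintype G] (P : Sylow p G)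
    [Fintype (P : Subgroup G)] (l : (P : Subgroup G) →* ℂˣ) :
    ∃ φ : IrrCharacter G, ¬ p ∣ charDegree (φ : G → ℂ) ∧
      classInner (fun y : (P : Subgroup G) => (φ : G → ℂ) y)
        (fun y : (P : Subgroup G) => (l y : ℂ)) ≠ 0 := by
  haveI : Fact p.Prime := ⟨hp⟩
  obtain ⟨n, hn⟩ := Chars.isCharacter_exists_nat_decomp
    (Chars.isCharacter_indFun (P : Subgroup G) (Chars.irr_isCharacter (Chars.linIrr l)))
  choose d hd0 hd using fun φ : IrrCharacter G => Chars.isIrrCharacter_exists_degree_pos φ.2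
  have hdeg : ∀ φ : IrrCharacter G, charDegree (φ : G → ℂ) = d φ := fun φ => by
    rw [charDegree, hd, Complex.natCast_re, Nat.floor_natCast]
  by_contra! h
  have h1 := congrFun hn 1
  rw [Chars.indFun_one_eq] at h1
  simp only [Finset.sum_apply, Pi.smul_apply, smul_eq_mul, hd,
    show (Chars.linIrr l : ↥(P : Subgroup G) → ℂ) 1 = 1 by simp [Chars.linIrr], mul_one] at h1
  have h2 : (P : Subgroup G).index = ∑ φ, n φ * d φ := by exact_mod_cast h1
  refine P.not_dvd_index (h2 ▸ Finset.dvd_sum fun φ _ => ?_)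
  by_cases hd' : p ∣ d φ
  · exact dvd_mul_of_dvd_right hd' _
  · have h3 := h φ (by rw [hdeg]; exact hd')
    have h4 := Chars.classInner_indFun_left (P : Subgroup G) (Chars.linIrr l : ↥(P : Subgroup G) → ℂ)
      (φ : G → ℂ) (Chars.irr_isClassFunction φ)
    rw [hn, Chars.classInner_sum_smul_irr, ← Chars.conj_classInner,
      show classInner (fun y : (P : Subgroup G) => (φ : G → ℂ) y)
        (Chars.linIrr l : ↥(P : Subgroup G) → ℂ) = 0 from h3, map_zero, Nat.cast_eq_zero] at h4
    simp [h4]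

/-- The elements acting trivially in every character of degree prime to `p` in the principal
block. -/
def X (p : ℕ) (M : Ideal AlgInt) (G : Type u) [Group G] : Set (IrrCharacter G) :=
  {χ | χ ∈ principalBlock M G ∧ ¬ p ∣ charDegree (χ : G → ℂ)}

omit [Finite G] [Fact p.Prime] in
theorem mem_commutator_of_forall_hom {P : Type*} [Group P] [Finite P] {x : P}
    (h : ∀ l : P →* ℂˣ, l x = 1) : x ∈ commutator P := by
  rw [← QuotientGroup.eq_one_iff]
  by_contra hne
  letI : CommGroup (P ⧸ commutator P) := Abelianization.commGroup P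
  obtain ⟨φ, hφ⟩ := CommGroup.exists_apply_ne_one_of_hasEnoughRootsOfUnity (P ⧸ commutator P) ℂ hne
  exact hφ (h (φ.comp (QuotientGroup.mk' (commutator P))))

/-- The main facts about the common kernel. -/
theorem exists_kernel (hM : IsPModular p M) (hps : IsPSolvable p G) (hdvd : p ∣ Nat.card G) :
    ∃ K : Subgroup G, K.Normal ∧
      (∀ x, x ∈ K ↔ ∀ χ ∈ X p M G, (χ : G → ℂ) x = (χ : G → ℂ) 1) ∧ K ≠ ⊤ ∧
      (∀ L : Subgroup G, L.Normal → K ≤ L → ¬ p ∣ K.relIndex L → L ≤ K) := by
  have hp : p.Prime := Fact.out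
  haveI := Fintype.ofFinite G
  haveI := PSolvable.pPrimeCore_characteristic (p := p) (G := G)
  have hrep : ∀ χ : IrrCharacter G, ∃ H : Subgroup G, H.Normal ∧
      ∀ x, x ∈ H ↔ (χ : G → ℂ) x = (χ : G → ℂ) 1 := by
    intro χ
    obtain ⟨n, ρ, -, hρ⟩ := χ.2
    exact ⟨MonoidHom.ker ρ, inferInstance, fun x => by
      rw [MonoidHom.mem_ker, Chars.rep_eq_one_iff, hρ]⟩
  choose H hHn hH using hrep
  let K : Subgroup G := ⨅ χ ∈ X p M G, H χ
  have hK : ∀ x, x ∈ K ↔ ∀ χ ∈ X p M G, (χ : G → ℂ) x = (χ : G → ℂ) 1 := fun x => by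
    simp only [K, Subgroup.mem_iInf, hH]
  have hKn : K.Normal := Subgroup.normal_iInf_normal fun χ => Subgroup.normal_iInf_normal fun _ => hHn χ
  obtain ⟨P⟩ : Nonempty (Sylow p G) := inferInstance
  haveI := Fintype.ofFinite (P : Subgroup G)
  set N := pPrimeCore p G with hN
  haveI := Fintype.ofFinite (G ⧸ N)
  let Pbar : Sylow p (G ⧸ N) := P.mapSurjective (QuotientGroup.mk'_surjective N)
  haveI := Fintype.ofFinite (Pbar : Subgroup (G ⧸ N))
  have hinj : Function.Injective ((QuotientGroup.mk' N).comp (P : Subgroup G).subtype) := by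
    refine (injective_iff_map_eq_one _).2 fun x hx => Subtype.ext ?_
    have h1 := PSolvable.inf_eq_bot_of_isPGroup_of_coprime (H := (P : Subgroup G)) (K := N)
      P.isPGroup' PSolvable.pPrimeCore_coprime
    have h2 : (x : G) ∈ (P : Subgroup G) ⊓ N := ⟨x.2, (QuotientGroup.eq_one_iff _).1 hx⟩
    rw [h1, Subgroup.mem_bot] at h2
    exact h2
  have hcoe : (Pbar : Subgroup (G ⧸ N)) = (P : Subgroup G).map (QuotientGroup.mk' N) :=
    Sylow.coe_mapSurjective _ _
  let e : (P : Subgroup G) →* (Pbar : Subgroup (G ⧸ N)) :=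
    ((QuotientGroup.mk' N).comp (P : Subgroup G).subtype).codRestrict _ fun x => by
      rw [hcoe]; exact Subgroup.mem_map_of_mem _ x.2
  have he : Function.Bijective e := by
    refine ⟨fun a b h => hinj (congrArg Subtype.val h), fun y => ?_⟩
    obtain ⟨y, hy⟩ := y
    have hy' := hy
    rw [hcoe] at hy'
    obtain ⟨x, hx, rfl⟩ := hy'
    exact ⟨⟨x, hx⟩, rfl⟩
  have hlam : ∀ (l : (P : Subgroup G) →* ℂˣ) (x : (P : Subgroup G)), (x : G) ∈ K → l x = 1 := by
    intro l x hx
    obtain ⟨φ, hφ, hφl⟩ := exists_pprime_constituent hp Pbar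
      (l.comp (MulEquiv.ofBijective e he).symm.toMonoidHom)
    have hχX : Chars.inflate N φ ∈ X p M G := ⟨inflate_mem_principalBlock hM hps φ, hφ⟩
    have hxχ := (hK x).1 hx _ hχX
    obtain ⟨n, ρ, -, hρ⟩ := (Chars.inflate N φ).2
    have hρx : ρ (x : G) = 1 := by rw [Chars.rep_eq_one_iff, hρ]; exact hxχ
    have hS : classInner (fun y : (P : Subgroup G) => ρ.character y)
        (fun y : (P : Subgroup G) => (l y : ℂ)) ≠ 0 := by
      convert hφl using 1
      simp only [classInner, Nat.card_congr (MulEquiv.ofBijective e he).toEquiv]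
      congr 1
      refine Fintype.sum_equiv (MulEquiv.ofBijective e he).toEquiv _ _ fun y => ?_
      rw [hρ]
      congr 3
      all_goals exact congrArg l ((MulEquiv.ofBijective e he).symm_apply_apply y).symm
    have htrans : ∑ y : (P : Subgroup G), ρ.character y * (starRingEnd ℂ) (l y : ℂ) =
        (starRingEnd ℂ) (l x : ℂ) * ∑ y : (P : Subgroup G), ρ.character y * (starRingEnd ℂ) (l y : ℂ) := by
      rw [Finset.mul_sum]
      refine (Fintype.sum_equiv (Equiv.mulRight x) _ _ fun y => ?_).symm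
      rw [Equiv.coe_mulRight, Subgroup.coe_mul, map_mul l, Units.val_mul, map_mul,
        show ρ.character ((y : G) * x) = ρ.character (y : G) by
          simp only [Representation.character, map_mul, hρx, mul_one]]
      ring
    have hne : ∑ y : (P : Subgroup G), ρ.character y * (starRingEnd ℂ) (l y : ℂ) ≠ 0 := fun h0 =>
      hS (by rw [classInner, h0, mul_zero])
    have h1 : (starRingEnd ℂ) (l x : ℂ) = 1 :=
      mul_right_cancel₀ hne (htrans.symm.trans (one_mul _).symm)
    exact Units.ext (by simpa using congrArg (starRingEnd ℂ) h1)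
  have hPK : ∀ x : (P : Subgroup G), (x : G) ∈ K → x ∈ frattini (P : Subgroup G) := fun x hx =>
    Transfer.commutator_le_frattini_of_isPGroup P.isPGroup'
      (mem_commutator_of_forall_hom fun l => hlam l x hx)
  refine ⟨K, hKn, hK, ?_, ?_⟩
  · intro htop
    haveI : Nontrivial (P : Subgroup G) := (Subgroup.nontrivial_iff_ne_bot _).2 fun h => by
      have := P.dvd_card_of_dvd_card hdvd
      rw [h, Subgroup.card_bot] at this
      exact hp.not_dvd_one this
    have h1 : frattini (P : Subgroup G) = ⊤ :=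
      eq_top_iff.2 fun x _ => hPK x (htop ▸ Subgroup.mem_top _)
    haveI : Finite (Subgroup (P : Subgroup G)) := inferInstance
    obtain ⟨C, hC, -⟩ := IsCoatomic.eq_top_or_exists_le_coatom (⊥ : Subgroup (P : Subgroup G))
      |>.resolve_left bot_ne_top
    exact hC.1 (top_le_iff.1 (h1 ▸ frattini_le_coatom hC))
  · intro L hLn hKL hrel
    haveI := hLn
    haveI := hKn
    have hLP : ∀ x ∈ L, x ∈ (P : Subgroup G) → x ∈ K := by
      intro x hxL hxP
      obtain ⟨j, hj⟩ := IsPGroup.iff_orderOf.1 P.isPGroup' ⟨x, hxP⟩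
      rw [← Subgroup.orderOf_coe] at hj
      have h1 : orderOf (QuotientGroup.mk (⟨x, hxL⟩ : L) : L ⧸ K.subgroupOf L) ∣ p ^ j :=
        (orderOf_map_dvd (QuotientGroup.mk' (K.subgroupOf L)) ⟨x, hxL⟩).trans
          (by rw [← Subgroup.orderOf_coe]; exact hj.dvd)
      have h2 : orderOf (QuotientGroup.mk (⟨x, hxL⟩ : L) : L ⧸ K.subgroupOf L) ∣ K.relIndex L := by
        rw [Subgroup.relIndex, Subgroup.index_eq_card]
        exact orderOf_dvd_natCard _
      have h3 := Nat.eq_one_of_dvd_coprimes ((Nat.Coprime.pow_left j (hp.coprime_iff_not_dvd.2 hrel))) h1 h2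
      rw [orderOf_eq_one_iff, QuotientGroup.eq_one_iff, Subgroup.mem_subgroupOf] at h3
      exact h3
    let HP : Subgroup G := L ⊔ (P : Subgroup G)
    let Q : Sylow p HP := P.subtype le_sup_right
    have hQ : (Q : Subgroup HP) = (P : Subgroup G).subgroupOf HP := rfl
    have hQL : (Q : Subgroup HP) ⊔ L.subgroupOf HP = ⊤ := by
      rw [hQ, ← Subgroup.subgroupOf_sup le_sup_right le_sup_left, sup_comm, Subgroup.subgroupOf_self]
    have hres : Cfsg.pResidual p HP ≤ L.subgroupOf HP := by
      refine Transfer.pResidual_le_of_isPGroup_quotient _ ?_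
      refine Q.isPGroup'.of_surjective ((QuotientGroup.mk' (L.subgroupOf HP)).comp
        (Q : Subgroup HP).subtype) ?_
      intro y
      obtain ⟨g, rfl⟩ := QuotientGroup.mk'_surjective _ y
      obtain ⟨a, ha, b, hb, rfl⟩ : ∃ a ∈ (Q : Subgroup HP), ∃ b ∈ L.subgroupOf HP, a * b = g :=
        Subgroup.mem_sup_of_normal_right.1 (hQL ▸ Subgroup.mem_top g)
      refine ⟨⟨a, ha⟩, ?_⟩
      show QuotientGroup.mk' _ a = _
      rw [map_mul, show QuotientGroup.mk' (L.subgroupOf HP) b = 1 from (QuotientGroup.eq_one_iff _).2 hb,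
        mul_one]
    have hnpc : Cfsg.HasNormalPComplement p HP := by
      refine Transfer.hasNormalPComplement_of_le_frattini Q ?_
      intro x hx
      have hxP : (x : G) ∈ (P : Subgroup G) := hx.2
      have h1 := hPK ⟨(x : G), hxP⟩ (hLP _ (hres hx.1) hxP)
      let em : (P : Subgroup G) →* (Q : Subgroup HP) :=
        { toFun := fun y => ⟨⟨(y : G), (le_sup_right : (P : Subgroup G) ≤ HP) y.2⟩, y.2⟩
          map_one' := rfl
          map_mul' := fun _ _ => rfl }
      have hem : Function.Surjective em := fun y => ⟨⟨((y : HP) : G), y.2⟩, rfl⟩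
      exact ⟨em ⟨(x : G), hxP⟩, frattini_le_comap_frattini_of_surjective hem h1, rfl⟩
    have hLnpc : Cfsg.HasNormalPComplement p L :=
      Transfer.hasNormalPComplement_of_injective (Subgroup.inclusion (le_sup_left : L ≤ HP))
        (Subgroup.inclusion_injective _) hnpc
    have hD : ¬ p ∣ Nat.card (Cfsg.pResidual p L) := Transfer.hasNormalPComplement_iff.1 hLnpc
    haveI : (Cfsg.pResidual p L).Characteristic := Transfer.pResidual_characteristic
    have hDle : (Cfsg.pResidual p L).map L.subtype ≤ N := PSolvable.le_pPrimeCore (by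
      rw [Subgroup.card_map_of_injective L.subtype_injective]
      exact (hp.coprime_iff_not_dvd.2 hD).symm)
    have hNK : N ≤ K := fun x hx => (hK x).2 fun χ hχ =>
      HeightPSolv.apply_eq_one_of_mem_principalBlock hM N PSolvable.pPrimeCore_not_dvd hχ.1 hx
    intro x hx
    obtain ⟨j, hj⟩ := Transfer.exists_pow_mem_pResidual (p := p) (⟨x, hx⟩ : L)
    have h1 : x ^ p ^ j ∈ K := hNK (hDle ⟨_, hj, rfl⟩)
    have h2 : orderOf (QuotientGroup.mk (⟨x, hx⟩ : L) : L ⧸ K.subgroupOf L) ∣ p ^ j :=
      orderOf_dvd_of_pow_eq_one (by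
        rw [← QuotientGroup.mk_pow, QuotientGroup.eq_one_iff, Subgroup.mem_subgroupOf]
        simpa using h1)
    have h3 : orderOf (QuotientGroup.mk (⟨x, hx⟩ : L) : L ⧸ K.subgroupOf L) ∣ K.relIndex L := by
      rw [Subgroup.relIndex, Subgroup.index_eq_card]
      exact orderOf_dvd_natCard _
    have h4 := Nat.eq_one_of_dvd_coprimes ((Nat.Coprime.pow_left j (hp.coprime_iff_not_dvd.2 hrel))) h2 h3
    rw [orderOf_eq_one_iff, QuotientGroup.eq_one_iff, Subgroup.mem_subgroupOf] at h4
    exact h4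

/-- The `p'`-core of the quotient by the kernel is trivial. -/
theorem pPrimeCore_quotient_kernel (K : Subgroup G) [K.Normal]
    (h : ∀ L : Subgroup G, L.Normal → K ≤ L → ¬ p ∣ K.relIndex L → L ≤ K) :
    pPrimeCore p (G ⧸ K) = ⊥ := by
  haveI := PSolvable.pPrimeCore_characteristic (p := p) (G := G ⧸ K)
  refine PSolvable.eq_bot_of_comap_mk'_le _ (h _ inferInstance (QuotientGroup.le_comap_mk' K _) ?_)
  intro hdvd
  have h1 := Subgroup.card_mul_index (K.subgroupOf ((pPrimeCore p (G ⧸ K)).comap (QuotientGroup.mk' K)))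
  rw [Nat.card_congr (Subgroup.subgroupOfEquivOfLe (QuotientGroup.le_comap_mk' K _)).toEquiv,
    PSolvable.card_comap_mk'] at h1
  change Nat.card K * K.relIndex _ = _ at h1
  have h2 : K.relIndex ((pPrimeCore p (G ⧸ K)).comap (QuotientGroup.mk' K)) =
      Nat.card (pPrimeCore p (G ⧸ K)) := Nat.eq_of_mul_eq_mul_left Nat.card_pos (h1.trans (by ring))
  exact PSolvable.pPrimeCore_not_dvd (p := p) (G := G ⧸ K) (h2 ▸ hdvd)

end Cfsg.Agent.Lib.PrincipalKernel
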