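import Cfsg.Agent.Lib.PrincipalKernel.Basic
import Cfsg.Agent.Lib.Glauberman.Solvable
import Cfsg.Agent.Lib.Elem69.Basic
import Cfsg.Agent.Lib.CharSums.FixedPoints
import Cfsg.Agent.Lib.Clifford.Correspondence
import Cfsg.Agent.Lib.Clifford.CharExtension
import Cfsg.Agent.Lib.Clifford.LinearExtension
import Mathlib

/-!
# Commuting Sylow subgroups and degrees of invariant characters
-/

set_option autoImplicit false

namespace Cfsg.Agent.Lib.PrincipalKernel

open Cfsg Cfsg.Agent.Lib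
open scoped Classical

universe u

variable {Γ : Type u} [Group Γ] [Finite Γ] {p q : ℕ} [Fact p.Prime] [Fact q.Prime]

omit [Finite Γ] in
/-- A `p`-group inside a normal `q'`-subgroup commutes with the `q`-groups it normalises. -/
theorem commute_of_normalises {B P Q : Subgroup Γ} [B.Normal] (hB : (Nat.card B).Coprime q)
    (hPB : P ≤ B) (hQ : IsPGroup q Q) (hnorm : ∀ x ∈ P, ∀ y ∈ Q, x * y * x⁻¹ ∈ Q) :
    ∀ x ∈ P, ∀ y ∈ Q, x * y = y * x := by
  intro x hx y hy
  have h1 : x * y * x⁻¹ * y⁻¹ ∈ Q := Q.mul_mem (hnorm x hx y hy) (Q.inv_mem hy)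
  have h2 : x * y * x⁻¹ * y⁻¹ ∈ B := by
    have : y * x⁻¹ * y⁻¹ ∈ B :=
      (inferInstance : B.Normal).conj_mem _ (B.inv_mem (hPB hx)) y
    rw [show x * y * x⁻¹ * y⁻¹ = x * (y * x⁻¹ * y⁻¹) by group]
    exact B.mul_mem (hPB hx) this
  obtain ⟨j, hj⟩ := IsPGroup.iff_orderOf.1 hQ ⟨_, h1⟩
  rw [← Subgroup.orderOf_coe] at hj
  have hd : orderOf (x * y * x⁻¹ * y⁻¹) ∣ Nat.card B := Subgroup.orderOf_dvd_natCard _ h2
  have := Nat.eq_one_of_dvd_coprimes (Nat.Coprime.pow_left j hB.symm) hj.dvd hd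
  rw [orderOf_eq_one_iff, mul_inv_eq_one, mul_inv_eq_iff_eq_mul] at this
  exact this

/-- A `p`-group normalising a `p'`-subgroup and lying in a normal `q'`-subgroup centralises one of
its Sylow `q`-subgroups. -/
theorem exists_commuting_sylow (B : Subgroup Γ) [B.Normal] (hB : (Nat.card B).Coprime q)
    (P : Subgroup Γ) (hP : IsPGroup p P) (hPB : P ≤ B) (I : Subgroup Γ) (hI : ¬ p ∣ Nat.card I)
    (hnorm : ∀ x ∈ P, ∀ n ∈ I, x * n * x⁻¹ ∈ I) :
    ∃ Q : Subgroup Γ, Q ≤ I ∧ IsPGroup q Q ∧ ¬ q ∣ Q.relIndex I ∧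
      ∀ x ∈ P, ∀ y ∈ Q, x * y = y * x := by
  have hPI : P ≤ Subgroup.normalizer (I : Set Γ) := by
    intro x hx
    rw [Subgroup.mem_normalizer_iff]
    exact fun n => ⟨hnorm x hx n, fun h => by simpa [mul_assoc] using hnorm x⁻¹ (P.inv_mem hx) _ h⟩
  let f : P →* MulAut I :=
    (Subgroup.normalizerMonoidHom I).comp (Subgroup.inclusion hPI)
  letI : MulDistribMulAction P I := MulDistribMulAction.compHom I f
  letI : MulAction P (Sylow q I) := inferInstance
  have hnd : ¬ p ∣ Nat.card (Sylow q I) := fun h => by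
    obtain ⟨S⟩ : Nonempty (Sylow q I) := inferInstance
    exact hI (h.trans (S.card_dvd_index.trans (Subgroup.index_dvd_card _)))
  obtain ⟨S, hS⟩ := hP.nonempty_fixed_point_of_prime_not_dvd_card (Sylow q I) hnd
  refine ⟨(S : Subgroup I).map I.subtype, Subgroup.map_subtype_le _, S.isPGroup'.map _, ?_, ?_⟩
  · rw [Subgroup.relIndex, Subgroup.subgroupOf, Subgroup.comap_map_eq_self_of_injective I.subtype_injective]
    exact S.not_dvd_index
  · refine commute_of_normalises hB hPB (S.isPGroup'.map _) ?_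
    rintro x hx _ ⟨y, hy, rfl⟩
    have h2 : (⟨x, hx⟩ : P) • y ∈ (((⟨x, hx⟩ : P) • S : Sylow q I) : Subgroup I) := by
      rw [Sylow.pointwise_smul_def]
      exact Subgroup.smul_mem_pointwise_smul _ _ _ hy
    rw [hS ⟨x, hx⟩] at h2
    exact ⟨(⟨x, hx⟩ : P) • y, h2, rfl⟩

/-- Two Sylow subgroups of a subgroup are conjugate in it. -/
theorem exists_conj_mem {C Q Q₂ : Subgroup Γ} (hQ : Q ≤ C) (hQ₂ : Q₂ ≤ C) (hQg : IsPGroup q Q)
    (hQ₂g : IsPGroup q Q₂) (hidx : ¬ q ∣ Q₂.relIndex C) :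
    ∃ c ∈ C, ∀ y ∈ Q, c * y * c⁻¹ ∈ Q₂ := by
  let S₂ : Sylow q C :=
    (hQ₂g.of_equiv (Subgroup.subgroupOfEquivOfLe hQ₂).symm).toSylow hidx
  obtain ⟨S, hS⟩ := (hQg.of_equiv (Subgroup.subgroupOfEquivOfLe hQ).symm).exists_le_sylow
  obtain ⟨c, hc⟩ := MulAction.exists_smul_eq C S S₂
  refine ⟨c, c.2, fun y hy => ?_⟩
  have h2 : MulAut.conj c • (⟨y, hQ hy⟩ : C) ∈ ((c • S : Sylow q C) : Subgroup C) := by
    rw [Sylow.coe_subgroup_smul]
    exact Subgroup.smul_mem_pointwise_smul _ _ _ (hS hy)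
  rw [hc] at h2
  exact h2

/-- For `p`-groups, some invariant character over an invariant one has nonzero multiplicity. -/
theorem exists_invariant_over {H : Subgroup Γ} [H.Normal] (hH : ¬ p ∣ Nat.card H)
    (R : Subgroup H) [Fintype R] (φ : IrrCharacter R) {P : Subgroup Γ} (hP : IsPGroup p P)
    (hinv : ∀ x ∈ P, ∀ r r' : R, ((r' : H) : Γ) = x * ((r : H) : Γ) * x⁻¹ →
      (φ : R → ℂ) r' = (φ : R → ℂ) r)
    (hR : ∀ x ∈ P, ∀ r : R, ∃ r' : R, ((r' : H) : Γ) = x * ((r : H) : Γ) * x⁻¹) :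
    ∃ θ : IrrCharacter H, (∀ x ∈ P, CharSums.conjIrr H x θ = θ) ∧
      classInner (fun r : R => (θ : H → ℂ) r) (φ : R → ℂ) ≠ 0 := by
  have hp : p.Prime := Fact.out
  haveI := Fintype.ofFinite H
  obtain ⟨m, hm⟩ := Chars.isCharacter_exists_nat_decomp
    (Chars.isCharacter_indFun R (Chars.irr_isCharacter φ))
  have hm' : ∀ θ : IrrCharacter H,
      classInner (φ : R → ℂ) (fun r : R => (θ : H → ℂ) r) = m θ := fun θ => by
    rw [← Chars.classInner_indFun_left R _ _ (Chars.irr_isClassFunction θ), hm,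
      Chars.classInner_sum_smul_irr]
  choose d hd0 hd using fun θ : IrrCharacter H => Chars.isIrrCharacter_exists_degree_pos θ.2
  obtain ⟨e, he0, he, hedvd⟩ := Chars.irr_degree_dvd_card φ
  have hnd : ¬ p ∣ ∑ θ, m θ * d θ := by
    have h1 := congrFun hm 1
    rw [Chars.indFun_one_eq, he] at h1
    simp only [Finset.sum_apply, Pi.smul_apply, smul_eq_mul, hd] at h1
    have h2 : R.index * e = ∑ θ, m θ * d θ := by exact_mod_cast h1
    rw [← h2]
    intro h
    rcases hp.dvd_mul.1 h with h | h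
    · exact hH (h.trans (Subgroup.index_dvd_card R))
    · exact hH ((h.trans hedvd).trans (Subgroup.card_subgroup_dvd_card R))
  letI act : MulAction P (IrrCharacter H) :=
    { smul := fun x θ => CharSums.conjIrr H (x : Γ) θ
      one_smul := fun θ => CharSums.conjIrr_one H θ
      mul_smul := fun x y θ => CharSums.conjIrr_mul H (x : Γ) (y : Γ) θ }
  have hw : ∀ (x : P) (θ : IrrCharacter H), m (x • θ) * d (x • θ) = m θ * d θ := by
    intro x θ
    have hdd : d (x • θ) = d θ := by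
      have : (x • θ : IrrCharacter H).1 1 = (θ : H → ℂ) 1 := by
        show (CharSums.conjIrr H (x : Γ) θ : H → ℂ) 1 = _
        rw [CharSums.conjIrr_apply, map_one]
      rw [hd, hd] at this
      exact_mod_cast this
    have hinj : Function.Injective (fun r : R => Classical.choose (hR x x.2 r)) := by
      intro a b h
      have ha := Classical.choose_spec (hR x x.2 a)
      have hb := Classical.choose_spec (hR x x.2 b)
      simp only at h
      rw [h, hb] at ha
      exact Subtype.ext (Subtype.ext (mul_left_cancel (mul_right_cancel ha))).symm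
    have hmm : (m (x • θ) : ℂ) = m θ := by
      rw [← hm', ← hm']
      simp only [classInner]
      congr 1
      refine (Fintype.sum_bijective _ hinj.bijective_of_finite _ _ fun r => ?_).symm
      have hr := Classical.choose_spec (hR x x.2 r)
      rw [hinv x x.2 r _ hr]
      congr 2
      show (θ : H → ℂ) r = (CharSums.conjIrr H (x : Γ) θ : H → ℂ) _
      exact ((CharSums.conjIrr_eq_iff H (x : Γ) θ _).1 rfl r _ hr).symm
    rw [hdd, show m (x • θ) = m θ by exact_mod_cast hmm]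
  let w : IrrCharacter H → ℕ := fun θ => m θ * d θ
  obtain ⟨v, hv⟩ : ∃ v, ¬ p ∣ (Finset.univ.filter fun θ => w θ = v).card * v := by
    by_contra! h
    refine hnd ?_
    rw [← Finset.sum_fiberwise_of_maps_to (g := w) (t := Finset.univ.image w)
      (fun θ _ => Finset.mem_image_of_mem w (Finset.mem_univ θ))]
    refine Finset.dvd_sum fun v _ => ?_
    rw [Finset.sum_congr rfl (g := fun _ => v) (fun θ hθ => (Finset.mem_filter.1 hθ).2),
      Finset.sum_const, smul_eq_mul]
    exact h v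
  letI : MulAction P {θ : IrrCharacter H // w θ = v} :=
    { smul := fun x θ => ⟨x • θ.1, (hw x θ.1).trans θ.2⟩
      one_smul := fun θ => Subtype.ext (one_smul P θ.1)
      mul_smul := fun x y θ => Subtype.ext (mul_smul x y θ.1) }
  obtain ⟨θ, hθ⟩ := hP.nonempty_fixed_point_of_prime_not_dvd_card {θ : IrrCharacter H // w θ = v} (by
    rw [Nat.card_eq_fintype_card, Fintype.card_subtype]
    exact fun h => hv (dvd_mul_of_dvd_left h v))
  refine ⟨θ.1, fun x hx => congrArg Subtype.val (hθ ⟨x, hx⟩), fun h0 => ?_⟩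
  have h1 : (m θ.1 : ℂ) = 0 := by rw [← hm', ← Chars.conj_classInner, h0, map_zero]
  have h2 : w θ.1 = v := θ.2
  refine hv (dvd_mul_of_dvd_right ?_ _)
  rw [← h2]
  simp only [w]
  rw [show m θ.1 = 0 by exact_mod_cast h1, zero_mul]
  exact dvd_zero p

/-- The inertia subgroup inside a subgroup. -/
theorem conjFun_subgroupOf {R H : Subgroup Γ} [R.Normal] (hRH : R ≤ H) (φ : R → ℂ) (g : H)
    (hg : Clifford.conjFun (g : Γ) φ = φ) :
    Clifford.conjFun g (fun r : R.subgroupOf H => φ ⟨((r : H) : Γ), r.2⟩) =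
      fun r : R.subgroupOf H => φ ⟨((r : H) : Γ), r.2⟩ := by
  funext r
  exact congrFun hg ⟨((r : H) : Γ), r.2⟩

/-- If all `P`-invariant characters of the normal `p'`-subgroup `H` have degree prime to `q`, then
a `P`-centralised Sylow `q`-subgroup of `H` is normal in `C_H(P)`. -/
theorem conj_mem_of_invariant_degrees : ∀ (Γ : Type u) [Group Γ] [Finite Γ],
    IsPSolvable q Γ → ∀ (H B P Q : Subgroup Γ) [H.Normal] [B.Normal],
    ¬ p ∣ Nat.card H → (Nat.card B).Coprime q → IsPGroup p P → P ≤ B →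
    (∀ θ : IrrCharacter H, (∀ x ∈ P, CharSums.conjIrr H x θ = θ) →
      ¬ q ∣ charDegree (θ : H → ℂ)) →
    IsPGroup q Q → Q ≤ H → ¬ q ∣ Q.relIndex H → (∀ x ∈ P, ∀ y ∈ Q, x * y = y * x) →
    ∀ c ∈ H, (∀ x ∈ P, x * c = c * x) → ∀ y ∈ Q, c * y * c⁻¹ ∈ Q := by
  intro Γ
  induction hn : Nat.card Γ using Nat.strong_induction_on generalizing Γ with
  | _ n ih => ?_
  subst hn
  intro _ _ hqs H B P Q _ _ hH hB hP hPB hθ hQ hQH hQidx hPQ c hcH hcP y hy
  have hq : q.Prime := Fact.out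
  by_cases hHbot : H = ⊥
  · have : y = 1 := Subgroup.mem_bot.1 (hHbot ▸ hQH hy)
    rw [this, mul_one, mul_inv_cancel]
    exact Q.one_mem
  obtain ⟨R, hRn, hRH, hRne, hRtype⟩ :=
    PSolvable.exists_normal_le_of_isPSolvable (p := q) H hHbot (PSolvable.isPSolvable_subgroup hqs H)
  haveI := hRn
  -- the quotient
  let π : Γ →* Γ ⧸ R := QuotientGroup.mk' R
  have hπ : Function.Surjective π := QuotientGroup.mk'_surjective R
  haveI : (H.map π).Normal := Subgroup.Normal.map inferInstance π hπ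
  haveI : (B.map π).Normal := Subgroup.Normal.map inferInstance π hπ
  have hlt : Nat.card (Γ ⧸ R) < Nat.card Γ := by
    rw [← Subgroup.index_eq_card, ← R.card_mul_index]
    exact lt_mul_of_one_lt_left (Nat.pos_of_ne_zero Subgroup.index_ne_zero_of_finite)
      ((Subgroup.one_lt_card_iff_ne_bot R).2 hRne)
  have hker : π.ker = R := QuotientGroup.ker_mk' R
  have hidxQ : ¬ q ∣ (Q.map π).relIndex (H.map π) := by
    rw [Subgroup.relIndex_map_map]
    intro h
    refine hQidx (h.trans ?_)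
    rw [hker, sup_eq_left.2 hRH]
    exact Subgroup.relIndex_dvd_of_le_left _ le_sup_left
  have hquot : π (c * y * c⁻¹) ∈ Q.map π := by
    have := ih _ hlt (Γ ⧸ R) rfl (PSolvable.isPSolvable_quotient hqs R) (H.map π) (B.map π)
      (P.map π) (Q.map π) (fun h => hH (h.trans (Subgroup.card_map_dvd H π)))
      (hB.coprime_dvd_left (Subgroup.card_map_dvd B π)) (hP.map π) (Subgroup.map_mono hPB) ?_
      (hQ.map π) (Subgroup.map_mono hQH) hidxQ
      (by rintro _ ⟨x, hx, rfl⟩ _ ⟨y, hy, rfl⟩; rw [← map_mul, hPQ x hx y hy, map_mul])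
      (π c) (Subgroup.mem_map_of_mem π hcH)
      (by rintro _ ⟨x, hx, rfl⟩; rw [← map_mul, hcP x hx, map_mul])
      (π y) (Subgroup.mem_map_of_mem π hy)
    · rwa [← map_inv, ← map_mul, ← map_mul] at this
    · intro θ hinv
      let θ' : IrrCharacter H := ⟨fun h => (θ : H.map π → ℂ) (π.subgroupMap H h),
        Chars.isIrrCharacter_comp_surjective _ (MonoidHom.subgroupMap_surjective π H) θ.2⟩
      have hd : charDegree (θ' : H → ℂ) = charDegree (θ : H.map π → ℂ) := by
        show Nat.floor ((θ : H.map π → ℂ) (π.subgroupMap H 1)).re = _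
        rw [map_one]; rfl
      rw [← hd]
      refine hθ θ' fun x hx => (CharSums.conjIrr_eq_iff H x θ' θ').2 fun a b hab => ?_
      refine (CharSums.conjIrr_eq_iff (H.map π) (π x) θ θ).1 (hinv _ (Subgroup.mem_map_of_mem π hx))
        (π.subgroupMap H a) (π.subgroupMap H b) ?_
      show π (b : Γ) = π x * π (a : Γ) * (π x)⁻¹
      rw [hab, map_mul, map_mul, map_inv]
  rcases hRtype with hRq | hRco
  · have hsup : IsPGroup q (Q ⊔ R : Subgroup Γ) := hQ.to_sup_of_normal_right hRq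
    have hle : Q ⊔ R ≤ H := sup_le hQH hRH
    have heq : Q.relIndex (Q ⊔ R) = 1 := by
      obtain ⟨k, hk⟩ := IsPGroup.iff_card.1 hsup
      have h1 : Q.relIndex (Q ⊔ R) ∣ q ^ k := hk ▸ Subgroup.relIndex_dvd_card Q (Q ⊔ R)
      have h2 : Q.relIndex (Q ⊔ R) ∣ Q.relIndex H :=
        Dvd.intro _ (Subgroup.relIndex_mul_relIndex Q (Q ⊔ R) H le_sup_left hle)
      exact Nat.eq_one_of_dvd_coprimes ((Nat.Coprime.pow_left k (hq.coprime_iff_not_dvd.2 hQidx))) h1 h2
    have hRQ : R ≤ Q := le_sup_right.trans (Subgroup.relIndex_eq_one.1 heq)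
    obtain ⟨y', hy', he⟩ := hquot
    have : y'⁻¹ * (c * y * c⁻¹) ∈ R := QuotientGroup.eq.1 he
    simpa using Q.mul_mem hy' (hRQ this)
  -- `R` is a `q'`-group
  haveI : Fintype R := Fintype.ofFinite R
  have hRp : ¬ p ∣ Nat.card R := fun h => hH (h.trans (Subgroup.card_dvd_of_le hRH))
  let D : Subgroup Γ := R ⊓ Subgroup.centralizer (P : Set Γ)
  have hQR : ∀ z, z ∈ Q → z ∈ R → z = 1 := fun z hzQ hzR => by
    obtain ⟨j, hj⟩ := IsPGroup.iff_orderOf.1 hQ ⟨z, hzQ⟩
    rw [← Subgroup.orderOf_coe] at hj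
    exact orderOf_eq_one_iff.1 (Nat.eq_one_of_dvd_coprimes (Nat.Coprime.pow_left j hRco.symm) hj.dvd
      (Subgroup.orderOf_dvd_natCard _ hzR))
  have hCP : ∀ z, (∀ x ∈ P, x * z = z * x) → z ∈ Subgroup.centralizer (P : Set Γ) :=
    fun z hz => Subgroup.mem_centralizer_iff.2 hz
  have hdecomp : ∀ z ∈ Q, ∀ c' ∈ H, (∀ x ∈ P, x * c' = c' * x) →
      π (c' * z * c'⁻¹) ∈ Q.map π → ∃ y' ∈ Q, ∃ r ∈ D, c' * z * c'⁻¹ = y' * r := by
    intro z hz c' _ hc'P h
    obtain ⟨y', hy', he⟩ := h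
    refine ⟨y', hy', y'⁻¹ * (c' * z * c'⁻¹), ⟨QuotientGroup.eq.1 he, ?_⟩, (mul_inv_cancel_left _ _).symm⟩
    exact Subgroup.mul_mem _ (Subgroup.inv_mem _ (hCP y' fun x hx => hPQ x hx y' hy'))
      (Subgroup.mul_mem _ (Subgroup.mul_mem _ (hCP c' hc'P) (hCP z fun x hx => hPQ x hx z hz))
        (Subgroup.inv_mem _ (hCP c' hc'P)))
  -- the quotient statement for every centralising element of `H`
  have hquot' : ∀ c' ∈ H, (∀ x ∈ P, x * c' = c' * x) → ∀ z ∈ Q, π (c' * z * c'⁻¹) ∈ Q.map π := by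
    intro c' hc' hc'P z hz
    have := ih _ hlt (Γ ⧸ R) rfl (PSolvable.isPSolvable_quotient hqs R) (H.map π) (B.map π)
      (P.map π) (Q.map π) (fun h => hH (h.trans (Subgroup.card_map_dvd H π)))
      (hB.coprime_dvd_left (Subgroup.card_map_dvd B π)) (hP.map π) (Subgroup.map_mono hPB) ?_
      (hQ.map π) (Subgroup.map_mono hQH) hidxQ
      (by rintro _ ⟨x, hx, rfl⟩ _ ⟨y, hy, rfl⟩; rw [← map_mul, hPQ x hx y hy, map_mul])
      (π c') (Subgroup.mem_map_of_mem π hc')
      (by rintro _ ⟨x, hx, rfl⟩; rw [← map_mul, hc'P x hx, map_mul])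
      (π z) (Subgroup.mem_map_of_mem π hz)
    · rwa [← map_inv, ← map_mul, ← map_mul] at this
    · intro θ hinv
      let θ' : IrrCharacter H := ⟨fun h => (θ : H.map π → ℂ) (π.subgroupMap H h),
        Chars.isIrrCharacter_comp_surjective _ (MonoidHom.subgroupMap_surjective π H) θ.2⟩
      have hd : charDegree (θ' : H → ℂ) = charDegree (θ : H.map π → ℂ) := by
        show Nat.floor ((θ : H.map π → ℂ) (π.subgroupMap H 1)).re = _
        rw [map_one]; rfl
      rw [← hd]
      refine hθ θ' fun x hx => (CharSums.conjIrr_eq_iff H x θ' θ').2 fun a b hab => ?_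
      refine (CharSums.conjIrr_eq_iff (H.map π) (π x) θ θ).1 (hinv _ (Subgroup.mem_map_of_mem π hx))
        (π.subgroupMap H a) (π.subgroupMap H b) ?_
      show π (b : Γ) = π x * π (a : Γ) * (π x)⁻¹
      rw [hab, map_mul, map_mul, map_inv]
  -- every element of `Q` fixes every `P`-invariant character of `R`
  have hfix : ∀ φ : IrrCharacter R, (∀ x ∈ P, Clifford.conjFun x (φ : R → ℂ) = φ) →
      ∀ z ∈ Q, Clifford.conjFun z (φ : R → ℂ) = φ := by
    intro φ hφ
    haveI := Fintype.ofFinite H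
    haveI : Fintype (R.subgroupOf H) := Fintype.ofFinite _
    let e : R.subgroupOf H ≃* R := Subgroup.subgroupOfEquivOfLe hRH
    let φ' : IrrCharacter (R.subgroupOf H) :=
      ⟨fun r => (φ : R → ℂ) (e r), Clifford.isIrrCharacter_comp_equiv e φ.2⟩
    have he : ∀ r, (e r : Γ) = ((r : H) : Γ) := fun _ => rfl
    obtain ⟨θ, hθinv, hθφ⟩ := exists_invariant_over hH (R.subgroupOf H) φ' hP
      (fun x hx r r' hr => by
        refine (congrArg (φ : R → ℂ) (Subtype.ext ?_)).trans (congrFun (hφ x hx) (e r))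
        rw [he, hr]; rfl)
      (fun x hx r => ⟨⟨⟨x * ((r : H) : Γ) * x⁻¹, (inferInstance : H.Normal).conj_mem _ (r : H).2 x⟩,
        hRn.conj_mem _ r.2 x⟩, rfl⟩)
    let T : Subgroup H :=
      { carrier := {h | Clifford.conjFun h (φ' : R.subgroupOf H → ℂ) = φ'}
        one_mem' := Clifford.conjFun_one _
        mul_mem' := fun {a b} ha hb => by
          show Clifford.conjFun (a * b) _ = _
          rw [Clifford.conjFun_mul, show Clifford.conjFun a _ = _ from ha]
          exact hb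
        inv_mem' := fun {a} ha => by
          show Clifford.conjFun a⁻¹ _ = _
          conv_lhs => rw [← show Clifford.conjFun a _ = (φ' : R.subgroupOf H → ℂ) from ha]
          rw [← Clifford.conjFun_mul, mul_inv_cancel, Clifford.conjFun_one] }
    have hdeg := Clifford.apply_one_eq θ.2 φ'.2 hθφ T (fun _ => Iff.rfl)
    obtain ⟨k, hk⟩ := Chars.isCharacter_classInner_nat
      (Chars.isCharacter_restrict (R.subgroupOf H) (Chars.irr_isCharacter θ)) (Chars.irr_isCharacter φ')
    have hTq : ¬ q ∣ T.index := by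
      intro h
      refine hθ θ hθinv ?_
      obtain ⟨e', -, he'⟩ := Chars.isIrrCharacter_exists_degree_pos φ'.2
      rw [show Clifford.resFun (R.subgroupOf H) (θ : H → ℂ) =
        fun r : R.subgroupOf H => (θ : H → ℂ) r from rfl, hk, he'] at hdeg
      obtain ⟨d, -, hd⟩ := Chars.isIrrCharacter_exists_degree_pos θ.2
      rw [hd] at hdeg
      have h1 : d = k * (T.index * e') := by exact_mod_cast hdeg
      rw [charDegree, hd, Complex.natCast_re, Nat.floor_natCast, h1]
      exact dvd_mul_of_dvd_right (dvd_mul_of_dvd_left h e') k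
    let I : Subgroup Γ := T.map H.subtype
    have hIH : I ≤ H := Subgroup.map_subtype_le _
    have hIfix : ∀ z ∈ I, Clifford.conjFun z (φ : R → ℂ) = φ := by
      rintro _ ⟨h, hh, rfl⟩
      funext r
      exact congrFun hh ⟨⟨(r : Γ), hRH r.2⟩, r.2⟩
    have hIin : ∀ z ∈ H, Clifford.conjFun z (φ : R → ℂ) = φ → z ∈ I := fun z hz hzφ =>
      ⟨⟨z, hz⟩, conjFun_subgroupOf hRH _ ⟨z, hz⟩ hzφ, rfl⟩
    obtain ⟨Q₂, hQ₂I, hQ₂, hQ₂idx, hPQ₂⟩ := exists_commuting_sylow (q := q) B hB P hP hPB I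
      (fun h => hH (h.trans (Subgroup.card_dvd_of_le hIH))) (fun x hx z hz => hIin _
        ((inferInstance : H.Normal).conj_mem z (hIH hz) x) (by
          rw [Clifford.conjFun_mul, Clifford.conjFun_mul, hφ x hx, hIfix z hz, hφ _ (P.inv_mem hx)]))
    let C : Subgroup Γ := H ⊓ Subgroup.centralizer (P : Set Γ)
    have hQ₂C : Q₂ ≤ C := fun z hz => ⟨hIH (hQ₂I hz), hCP z fun x hx => hPQ₂ x hx z hz⟩
    obtain ⟨c', hc', hconj⟩ := exists_conj_mem (q := q) (C := C) (Q := Q)
      (fun z hz => ⟨hQH hz, hCP z fun x hx => hPQ x hx z hz⟩) hQ₂C hQ hQ₂ (by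
        intro h
        have h1 : Q₂.relIndex C ∣ Q₂.relIndex H :=
          Dvd.intro _ (Subgroup.relIndex_mul_relIndex Q₂ C H hQ₂C inf_le_left)
        rw [← Subgroup.relIndex_mul_relIndex Q₂ I H hQ₂I hIH] at h1
        rcases hq.dvd_mul.1 (h.trans h1) with h | h
        · exact hQ₂idx h
        · apply hTq
          rwa [Subgroup.relIndex, Subgroup.subgroupOf,
            Subgroup.comap_map_eq_self_of_injective H.subtype_injective] at h)
    have hc'P : ∀ x ∈ P, x * c' = c' * x := fun x hx => Subgroup.mem_centralizer_iff.1 hc'.2 x hx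
    -- the correspondence between `Q` and its conjugate is onto
    choose g hgQ r hr hgr using fun z : Q =>
      hdecomp z z.2 c' hc'.1 hc'P (hquot' c' hc'.1 hc'P z z.2)
    have hinj : Function.Injective (fun z : Q => (⟨g z, hgQ z⟩ : Q)) := by
      intro a b h
      have hgab : g a = g b := congrArg Subtype.val h
      have h1 : c' * ((a : Γ)⁻¹ * b) * c'⁻¹ ∈ R := by
        rw [show c' * ((a : Γ)⁻¹ * b) * c'⁻¹ = (c' * a * c'⁻¹)⁻¹ * (c' * b * c'⁻¹) by group, hgr a,
          hgr b, hgab, show (g b * r a)⁻¹ * (g b * r b) = (r a)⁻¹ * r b by group]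
        exact R.mul_mem (R.inv_mem (hr a).1) (hr b).1
      have h2 : (a : Γ)⁻¹ * b ∈ R := by
        simpa [mul_assoc] using hRn.conj_mem _ h1 c'⁻¹
      exact Subtype.ext (inv_mul_eq_one.1 (hQR _ (Q.mul_mem (Q.inv_mem a.2) b.2) h2))
    intro z hz
    obtain ⟨a, ha⟩ := hinj.bijective_of_finite.2 ⟨z, hz⟩
    have hz' : z = (c' * a * c'⁻¹) * (r a)⁻¹ := by
      rw [hgr a, mul_inv_cancel_right]; exact (congrArg Subtype.val ha).symm
    have hinner : Clifford.conjFun (r a)⁻¹ (φ : R → ℂ) = φ := by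
      funext s
      refine Eq.trans (congrArg (φ : R → ℂ) (Subtype.ext ?_))
        (Chars.irr_isClassFunction φ s ⟨(r a)⁻¹, R.inv_mem (hr a).1⟩)
      rfl
    rw [hz', Clifford.conjFun_mul, hIfix _ (hQ₂I (hconj a a.2)), hinner]
  -- hence `Q` centralises `D`
  haveI : Fintype D := Fintype.ofFinite D
  have hDnorm : ∀ z ∈ Q, ∀ d ∈ D, z * d * z⁻¹ ∈ D := fun z hz d hd =>
    ⟨hRn.conj_mem d hd.1 z, Subgroup.mul_mem _ (Subgroup.mul_mem _ (hCP z fun x hx => hPQ x hx z hz) hd.2)
      (Subgroup.inv_mem _ (hCP z fun x hx => hPQ x hx z hz))⟩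
  have hcent : ∀ z ∈ Q, ∀ d ∈ D, z * d = d * z := by
    haveI := hP.isNilpotent
    obtain ⟨f, hf, hnat⟩ := Glauberman.exists_corr (S := P) (G := R) (C := D) inferInstance
      (fun x _ => Glauberman.normalises_of_mem fun g hg => hRn.conj_mem g hg x)
      (by
        obtain ⟨k, hk⟩ := IsPGroup.iff_card.1 hP
        rw [hk]
        exact ((Fact.out : p.Prime).coprime_iff_not_dvd.2 hRp).symm.pow_right k)
      rfl
    intro z hz d hd
    have hzD : Glauberman.Normalises z D := Glauberman.normalises_of_mem (hDnorm z hz)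
    have hzR : Glauberman.Normalises z R := Glauberman.normalises_of_mem fun g hg => hRn.conj_mem g hg z
    have hzP : Glauberman.Normalises z P := Glauberman.normalises_of_mem fun x hx => by
      rw [← hPQ x hx z hz, mul_inv_cancel_right]; exact hx
    have hclass : ∀ (β : IrrCharacter D) (a a' : D), (a' : Γ) = z * a * z⁻¹ →
        (β : D → ℂ) a' = (β : D → ℂ) a := by
      intro β a a' haa
      obtain ⟨β', hβ'⟩ := Glauberman.exists_isConjBy hzD β
      have h1 := hnat z hzR hzP β β' hβ'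
      have h2 : Glauberman.IsConjBy z (f β : R → ℂ) (f β : R → ℂ) := fun g g' hg => by
        have hinv : ∀ x ∈ P, Clifford.conjFun x (f β : R → ℂ) = f β := fun x hx =>
          funext fun n => hf.inv β x hx n _ rfl
        refine (congrArg (f β : R → ℂ) (Subtype.ext ?_)).trans (congrFun (hfix (f β) hinv z hz) g)
        exact hg
      have h3 : f β' = f β := Subtype.ext (Glauberman.IsConjBy.eq hzR h1 h2)
      rw [hf.inj h3] at hβ'
      exact hβ' a a' haa
    -- each class of `D` meets the centraliser of `z`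
    let C₀ : Subgroup D := (Subgroup.centralizer ({z} : Set Γ)).subgroupOf D
    have htop : C₀ = ⊤ := by
      refine Elem69.eq_top_of_forall_exists_conj C₀ fun a => ?_
      let σ : D ≃* D := Glauberman.conjEquiv hzD
      have hσ : ∀ b : D, ((σ b : D) : Γ) = z * b * z⁻¹ := fun _ => rfl
      have hconjσ : ∀ b : D, IsConj a b → IsConj a (σ b) := fun b hb => by
        refine hb.trans ((Chars.isConj_iff_irr).2 fun β => ?_)
        exact (hclass β b (σ b) (hσ b)).symm
      letI : SMul (Subgroup.zpowers z) {b : D // IsConj a b} :=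
        { smul := fun t b => if h : ∀ b : D, IsConj a b →
            ∃ b' : D, (b' : Γ) = t * b * (t : Γ)⁻¹ ∧ IsConj a b'
            then ⟨Classical.choose (h b.1 b.2), (Classical.choose_spec (h b.1 b.2)).2⟩ else b }
      have hall : ∀ t : Subgroup.zpowers z, ∀ b : D, IsConj a b →
          ∃ b' : D, (b' : Γ) = t * b * (t : Γ)⁻¹ ∧ IsConj a b' := by
        rintro ⟨t, ht⟩
        obtain ⟨i, rfl⟩ := (isOfFinOrder_of_finite z).mem_powers_iff_mem_zpowers.2 ht
        induction i with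
        | zero => exact fun b hb => ⟨b, by simp, hb⟩
        | succ i ih' =>
          intro b hb
          obtain ⟨b', hb', hb''⟩ := ih' ⟨(i : ℤ), zpow_natCast z i⟩ b hb
          refine ⟨σ b', ?_, hconjσ b' hb''⟩
          rw [hσ, hb']
          show z * (z ^ i * (b : Γ) * (z ^ i)⁻¹) * z⁻¹ = z ^ (i + 1) * (b : Γ) * (z ^ (i + 1))⁻¹
          rw [pow_succ']
          group
      have hsm : ∀ (t : Subgroup.zpowers z) (b : {b : D // IsConj a b}),
          (((t • b : {b : D // IsConj a b}).1 : D) : Γ) = t * b.1 * (t : Γ)⁻¹ := fun t b => by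
        show (((if h : _ then _ else b : {b : D // IsConj a b}).1 : D) : Γ) = _
        rw [dif_pos (hall t)]
        exact (Classical.choose_spec (hall t b.1 b.2)).1
      letI : MulAction (Subgroup.zpowers z) {b : D // IsConj a b} :=
        { one_smul := fun b => Subtype.ext (Subtype.ext (by rw [hsm]; simp))
          mul_smul := fun s t b => Subtype.ext (Subtype.ext (by rw [hsm, hsm, hsm, Subgroup.coe_mul]; group)) }
      have hzg : IsPGroup q (Subgroup.zpowers z) := hQ.to_le (Subgroup.zpowers_le.2 hz)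
      obtain ⟨b, hb⟩ := hzg.nonempty_fixed_point_of_prime_not_dvd_card {b : D // IsConj a b} (by
        rw [Chars.card_conjClass_eq_index]
        intro h
        have hD : q ∣ Nat.card R :=
          (h.trans (Subgroup.index_dvd_card _)).trans (Subgroup.card_dvd_of_le inf_le_left)
        exact hq.coprime_iff_not_dvd.1 hRco.symm hD)
      obtain ⟨w, hw⟩ := isConj_iff.1 b.2
      refine ⟨w⁻¹, ?_⟩
      rw [inv_inv, hw, Subgroup.mem_subgroupOf, Subgroup.mem_centralizer_singleton_iff]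
      have h1 := hsm ⟨z, Subgroup.mem_zpowers z⟩ b
      rw [hb ⟨z, Subgroup.mem_zpowers z⟩] at h1
      exact eq_mul_inv_iff_mul_eq.1 h1
    have := Subgroup.mem_subgroupOf.1 (htop ▸ Subgroup.mem_top (⟨d, hd⟩ : D) : (⟨d, hd⟩ : D) ∈ C₀)
    exact (Subgroup.mem_centralizer_singleton_iff.1 this).symm
  obtain ⟨y', hy', r, hr, he⟩ := hdecomp y hy c hcH hcP hquot
  obtain ⟨j, hj⟩ := IsPGroup.iff_orderOf.1 hQ ⟨y, hy⟩
  rw [← Subgroup.orderOf_coe] at hj
  obtain ⟨i, hi⟩ := IsPGroup.iff_orderOf.1 hQ ⟨y', hy'⟩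
  rw [← Subgroup.orderOf_coe] at hi
  have hr1 : r = 1 := by
    have h1 : (y' * r) ^ q ^ (i + j) = 1 := by
      rw [← he, conj_pow, orderOf_dvd_iff_pow_eq_one.1
        (hj ▸ pow_dvd_pow q (Nat.le_add_left j i)), mul_one, mul_inv_cancel]
    have h2 : y' ^ q ^ (i + j) = 1 :=
      orderOf_dvd_iff_pow_eq_one.1 (hi ▸ pow_dvd_pow q (Nat.le_add_right i j))
    rw [(Commute.mul_pow (hcent y' hy' r hr) _), h2, one_mul] at h1
    exact orderOf_eq_one_iff.1 (Nat.eq_one_of_dvd_coprimes (Nat.Coprime.pow_left _ hRco.symm)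
      (orderOf_dvd_of_pow_eq_one h1) (Subgroup.orderOf_dvd_natCard _ hr.1))
  rw [he, hr1, mul_one]
  exact hy'

end Cfsg.Agent.Lib.PrincipalKernel
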